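import Cfsg.Agent.H634.Cols
import Cfsg.Agent.H634.Fus

/-!
# S4879: one class of nontrivial `p`-elements (helper723)

`k(B_0(G)) = l(B_0(G)) + l(B_0(C_G(x)))`.
-/

set_option autoImplicit false
set_option linter.unusedSectionVars false

open Subgroup Cfsg

namespace Cfsg.Agent.H723.LbC

open Cfsg.Agent.H634.Cols Cfsg.Agent.H634.Fus

universe u

variable {G : Type u} [Group G] [Finite G] {p : ℕ} [Fact p.Prime] {M : Ideal AlgInt}

/-- **Brauer's formula when there is one class of nontrivial `p`-elements.** -/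
theorem card_eq_of_oneClass (hM : IsPModular p M) (hC : OneClass p G) {x : G}
    (hx : ∃ k : ℕ, orderOf x = p ^ k) (hx1 : x ≠ 1) :
    Nat.card (principalBlock M G) = blockRank p (principalBlock M G) +
      blockRank p (principalBlock M ↥(Subgroup.centralizer ({x} : Set G))) := by
  classical
  have h1 : ∃ k : ℕ, orderOf (1 : G) = p ^ k := ⟨0, by simp⟩
  have hX : ∀ y ∈ ({1, x} : Finset G), ∃ k : ℕ, orderOf y = p ^ k := by
    intro y hy
    simp only [Finset.mem_insert, Finset.mem_singleton] at hy
    rcases hy with rfl | rfl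
    · exact h1
    · exact hx
  have hXrep : ∀ g : G, (∃ k : ℕ, orderOf g = p ^ k) →
      ∃! y, y ∈ ({1, x} : Finset G) ∧ IsConj g y := by
    intro g hg
    by_cases hg1 : g = 1
    · subst hg1
      refine ⟨1, ⟨by simp, IsConj.refl _⟩, ?_⟩
      rintro y ⟨-, hy⟩
      exact one_conj hy
    · refine ⟨x, ⟨by simp, hC g x hg hg1 hx hx1⟩, ?_⟩
      rintro y ⟨hy, hc⟩
      simp only [Finset.mem_insert, Finset.mem_singleton] at hy
      rcases hy with rfl | rfl
      · exact (hg1 (one_conj hc.symm)).elim
      · rfl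
  rw [card_principal_eq hM _ hX hXrep, Finset.sum_pair (Ne.symm hx1)]
  have h3 : blockRank p (principalBlock M ↥(Subgroup.centralizer ({(1 : G)} : Set G))) =
      blockRank p (principalBlock M G) := by
    rw [← finrank_secMap_principal hM h1, finrank_secMap_one]
  rw [h3]

/-- If `p + l(B_0(C_G(x))) ≤ k(B_0(G))`, then `p ≤ l(B_0(G))`. -/
theorem le_rank_of_card (hM : IsPModular p M) (hC : OneClass p G) {x : G}
    (hx : ∃ k : ℕ, orderOf x = p ^ k) (hx1 : x ≠ 1)
    (h : p + blockRank p (principalBlock M ↥(Subgroup.centralizer ({x} : Set G))) ≤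
      Nat.card (principalBlock M G)) :
    p ≤ blockRank p (principalBlock M G) := by
  rw [card_eq_of_oneClass hM hC hx hx1] at h
  omega

end Cfsg.Agent.H723.LbC
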