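import Cfsg.Agent.S4819
import Cfsg.Agent.S0919
import Cfsg.Agent.S0936
import Cfsg.Agent.S4652
import Cfsg.Agent.Blocks.PrincipalSection
import Cfsg.Agent.Blocks.Local

/-!
# S4879, groups with a TI Sylow `p`-subgroup (helper723)

* `rank_ti` : `l(B_0(G)) = l(B_0(N_G(P)))`;
* `oneClass_ti` : if all nontrivial `p`-elements of `G` are conjugate, the same is true in `N_G(P)`.
-/

set_option autoImplicit false
set_option linter.unusedSectionVars false

open Subgroup Cfsg
open scoped Pointwise

namespace Cfsg.Agent.H723.Lb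

universe u

/-- all nontrivial `p`-elements are conjugate -/
def OneClass (p : ℕ) (G : Type u) [Group G] : Prop :=
  ∀ x y : G, x ≠ 1 → y ≠ 1 → (∃ k : ℕ, orderOf x = p ^ k) → (∃ k : ℕ, orderOf y = p ^ k) → IsConj x y

variable {G : Type u} [Group G] [Finite G] {p : ℕ} [Fact p.Prime]

/-- **TI Sylow subgroups: the rank of the principal block is local.** -/
theorem rank_ti {M : Ideal AlgInt} (hM : IsPModular p M) (P : Sylow p G) (hTI : Cfsg.Agent.H723.TI.TIs P) :
    blockRank p (principalBlock M G) =
      blockRank p (principalBlock M (Subgroup.normalizer ((P : Subgroup G) : Set G))) := by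
  have := Fintype.ofFinite G
  have hP : (P : Subgroup G) ≤ Subgroup.normalizer ((P : Subgroup G) : Set G) := Subgroup.le_normalizer
  have hC : Subgroup.centralizer ((P : Subgroup G) : Set G) ≤ Subgroup.normalizer ((P : Subgroup G) : Set G) :=
    Subgroup.centralizer_le_normalizer _
  have hb : IsPBlock M (principalBlock M (Subgroup.normalizer ((P : Subgroup G) : Set G))) :=
    Blocks.PrincipalSection.isPBlock_principalBlock
  have hdef := S0919.result p M hM (P : Subgroup G) _ P.2 hP hC le_rfl _ hb
  have hind := (S0936.result p M hM _ _ hdef).2 rfl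
  exact S4819.result p M hM P hTI _ Blocks.PrincipalSection.isPBlock_principalBlock
    ((S4652.result p M hM (P : Subgroup G)).2 ⟨P, rfl⟩) _ hind

/-- **one class of `p`-elements is inherited by `N_G(P)`** -/
theorem oneClass_ti (P : Sylow p G) (hTI : Cfsg.Agent.H723.TI.TIs P) (h : OneClass p G) :
    OneClass p (Subgroup.normalizer ((P : Subgroup G) : Set G)) := by
  have key : ∀ x : Subgroup.normalizer ((P : Subgroup G) : Set G), (∃ k : ℕ, orderOf x = p ^ k) →
      (x : G) ∈ (P : Subgroup G) := by
    rintro x ⟨k, hk⟩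
    have hx : orderOf (x : G) = p ^ k := by rw [Subgroup.orderOf_coe, hk]
    have hz : IsPGroup p (Subgroup.zpowers (x : G)) := by
      apply IsPGroup.of_card (n := k)
      rw [Nat.card_zpowers, hx]
    have h1 : Subgroup.zpowers (x : G) ≤ Subgroup.normalizer ((P : Subgroup G) : Set G) := by
      rw [Subgroup.zpowers_le]
      exact x.2
    have h2 : Subgroup.zpowers (x : G) ≤ (P : Subgroup G) := by
      have h3 : Subgroup.zpowers (x : G) ⊓ Subgroup.normalizer ((P : Subgroup G) : Set G) =
          Subgroup.zpowers (x : G) ⊓ P := hz.inf_normalizer_sylow P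
      rw [inf_eq_left.2 h1] at h3
      rw [h3]
      exact inf_le_right
    exact h2 (Subgroup.mem_zpowers _)
  intro x y hx hy hxp hyp
  have hx' : ((x : G)) ≠ 1 := fun e => hx (Subtype.ext e)
  have hy' : ((y : G)) ≠ 1 := fun e => hy (Subtype.ext e)
  obtain ⟨g, hg⟩ := isConj_iff.1 (h (x : G) y hx' hy' (by rwa [Subgroup.orderOf_coe]) (by rwa [Subgroup.orderOf_coe]))
  have hgN : g ∈ Subgroup.normalizer ((P : Subgroup G) : Set G) := by
    by_contra hcon
    have h1 : (y : G) ∈ (P : Subgroup G) ⊓ (MulAut.conj g • (P : Subgroup G)) := by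
      refine Subgroup.mem_inf.2 ⟨key y hyp, ?_⟩
      rw [Subgroup.mem_pointwise_smul_iff_inv_smul_mem, ← map_inv, MulAut.smul_def, MulAut.conj_apply, inv_inv, ← hg]
      have h2 : g⁻¹ * (g * (x : G) * g⁻¹) * g = x := by group
      rw [h2]
      exact key x hxp
    rw [hTI g hcon, Subgroup.mem_bot] at h1
    exact hy' h1
  exact isConj_iff.2 ⟨⟨g, hgN⟩, Subtype.ext hg⟩

end Cfsg.Agent.H723.Lb
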