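import Cfsg.Agent.H723.Lb.Card
import Cfsg.Agent.H723.Lb.TI

/-!
# S4879: the two forms of `OneClass` (helper723)
-/

set_option autoImplicit false

open Subgroup Cfsg

namespace Cfsg.Agent.H723.LbC

universe u

theorem oneClass_iff {p : ℕ} {G : Type u} [Group G] :
    Cfsg.Agent.H723.Lb.OneClass p G ↔ Cfsg.Agent.H634.Fus.OneClass p G :=
  ⟨fun h x y hx hx1 hy hy1 => h x y hx1 hy1 hx hy, fun h x y hx1 hy1 hx hy => h x y hx hx1 hy hy1⟩

variable {G : Type u} [Group G] [Finite G] {p : ℕ} [Fact p.Prime]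

/-- one class of `p`-elements is inherited by the normalizer of a TI Sylow subgroup -/
theorem oneClass_normalizer (P : Sylow p G) (hTI : Cfsg.Agent.H723.TI.TIs P)
    (h : Cfsg.Agent.H634.Fus.OneClass p G) :
    Cfsg.Agent.H634.Fus.OneClass p (Subgroup.normalizer ((P : Subgroup G) : Set G)) :=
  oneClass_iff.1 (Cfsg.Agent.H723.Lb.oneClass_ti P hTI (oneClass_iff.2 h))

end Cfsg.Agent.H723.LbC
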